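import Mathlib
import Cfsg.Prelude.Def_Involutions
import Cfsg.Agent.Lib.Involution.Basic

/-!
# Strongly embedded subgroups: first equivalences

Written by helper7.
-/

set_option autoImplicit false

namespace Cfsg.Agent.Lib.Involution

variable {G : Type*} [Group G] [Finite G]

theorem even_card_inf_map_conj_iff (H : Subgroup G) (g : G) :
    Even (Nat.card ↥(H ⊓ H.map (MulAut.conj g).toMonoidHom)) ↔
      ∃ t ∈ H, orderOf t = 2 ∧ g * t * g⁻¹ ∈ H := by
  constructor
  · intro h
    obtain ⟨u, ⟨huH, v, hvH, hv⟩, hu⟩ := exists_orderOf_eq_two _ h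
    simp only [MulEquiv.coe_toMonoidHom, MulAut.conj_apply] at hv
    refine ⟨v, hvH, ?_, hv ▸ huH⟩
    rw [← orderOf_conj_eq g v, hv, hu]
  · rintro ⟨t, htH, ht, hgt⟩
    exact even_card_of_mem (t := g * t * g⁻¹) (by rw [orderOf_conj_eq, ht]) ⟨hgt, t, htH, rfl⟩

/-- The basic reformulation: an involution of `H` has its conjugate in `H` only by elements of `H`. -/
theorem isStronglyEmbedded_iff (H : Subgroup G) :
    Cfsg.IsStronglyEmbedded H ↔ H ≠ ⊤ ∧ Even (Nat.card H) ∧
      ∀ t ∈ H, orderOf t = 2 → ∀ g : G, g * t * g⁻¹ ∈ H → g ∈ H := by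
  unfold Cfsg.IsStronglyEmbedded
  refine and_congr_right fun _ => and_congr_right fun _ => ?_
  constructor
  · intro h t htH ht g hg
    by_contra hgH
    exact Nat.not_even_iff_odd.mpr (h g hgH) ((even_card_inf_map_conj_iff H g).mpr ⟨t, htH, ht, hg⟩)
  · intro h g hgH
    rw [← Nat.not_even_iff_odd, even_card_inf_map_conj_iff]
    rintro ⟨t, htH, ht, hg⟩
    exact hgH (h t htH ht g hg)

section

variable {H : Subgroup G} (hH : Cfsg.IsStronglyEmbedded H)
include hH

theorem IsSE_mem_of_conj_mem {t g : G} (htH : t ∈ H) (ht : orderOf t = 2)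
    (hg : g * t * g⁻¹ ∈ H) : g ∈ H :=
  ((isStronglyEmbedded_iff H).mp hH).2.2 t htH ht g hg

theorem IsSE_centralizer_le {t : G} (htH : t ∈ H) (ht : orderOf t = 2) :
    Subgroup.centralizer ({t} : Set G) ≤ H := fun g hg => by
  refine IsSE_mem_of_conj_mem hH htH ht ?_
  rwa [Subgroup.mem_centralizer_singleton_iff.mp hg, mul_inv_cancel_right]

theorem IsSE_normalizer_le {X : Subgroup G} (hXH : X ≤ H) (hX : Even (Nat.card X)) :
    Subgroup.normalizer (X : Set G) ≤ H := by
  obtain ⟨t, htX, ht⟩ := exists_orderOf_eq_two X hX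
  exact fun g hg => IsSE_mem_of_conj_mem hH (hXH htX) ht
    (hXH ((Subgroup.mem_normalizer_iff.mp hg t).mp htX))

end

end Cfsg.Agent.Lib.Involution
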