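import Mathlib
import Cfsg.Agent.Lib.Involution.Basic

/-!
# Counting pairs of involutions with given product (Brauer–Fowler)

Written by helper7.
-/

set_option autoImplicit false

namespace Cfsg.Agent.Lib.Involution

variable {G : Type*} [Group G] [Finite G]

/-- Pairs of involutions with product `x` inject into the elements conjugating `x` to `x⁻¹`. -/
theorem card_pairs_le_conjugators (x : G) (A B : Set G) (hA : ∀ a ∈ A, orderOf a = 2)
    (hB : ∀ b ∈ B, orderOf b = 2) :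
    Nat.card {p : G × G // p.1 ∈ A ∧ p.2 ∈ B ∧ p.1 * p.2 = x} ≤
      Nat.card {g : G // g * x * g⁻¹ = x⁻¹} := by
  refine Nat.card_le_card_of_injective (fun p => ⟨p.1.1, ?_⟩) ?_
  · obtain ⟨ha, hb, he⟩ := p.2
    have := conj_zpow_pair (mul_self_eq_one (hA _ ha)) (mul_self_eq_one (hB _ hb)) 1
    rwa [zpow_one, he] at this
  · rintro ⟨⟨u, v⟩, hp⟩ ⟨⟨u', v'⟩, hp'⟩ h
    have hu : u = u' := congrArg Subtype.val h
    subst hu
    have hv : v = v' := mul_left_cancel (hp.2.2.trans hp'.2.2.symm)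
    subst hv
    rfl

theorem card_pairs_eq_zero (x : G) (A B : Set G) (hA : ∀ a ∈ A, orderOf a = 2)
    (hB : ∀ b ∈ B, orderOf b = 2) (hx : ¬ IsConj x x⁻¹) :
    Nat.card {p : G × G // p.1 ∈ A ∧ p.2 ∈ B ∧ p.1 * p.2 = x} = 0 := by
  have := card_pairs_le_conjugators x A B hA hB
  have he : IsEmpty {g : G // g * x * g⁻¹ = x⁻¹} := ⟨fun g => hx (isConj_iff.mpr ⟨g.1, g.2⟩)⟩
  rw [Nat.card_of_isEmpty (α := {g : G // g * x * g⁻¹ = x⁻¹})] at this
  omega

theorem card_pairs_le_centralizer (x : G) (A B : Set G) (hA : ∀ a ∈ A, orderOf a = 2)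
    (hB : ∀ b ∈ B, orderOf b = 2) :
    Nat.card {p : G × G // p.1 ∈ A ∧ p.2 ∈ B ∧ p.1 * p.2 = x} ≤
      Nat.card (Subgroup.centralizer ({x} : Set G)) := by
  by_cases hx : IsConj x x⁻¹
  · exact (card_pairs_le_conjugators x A B hA hB).trans (card_conjugators hx).le
  · rw [card_pairs_eq_zero x A B hA hB hx]; exact Nat.zero_le _

theorem card_pairs_add_two_le (x : G) (A B : Set G) (hA : ∀ a ∈ A, orderOf a = 2)
    (hB : ∀ b ∈ B, orderOf b = 2) (hx : orderOf x = 2) :
    Nat.card {p : G × G // p.1 ∈ A ∧ p.2 ∈ B ∧ p.1 * p.2 = x} + 2 ≤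
      Nat.card (Subgroup.centralizer ({x} : Set G)) := by
  let f : {p : G × G // p.1 ∈ A ∧ p.2 ∈ B ∧ p.1 * p.2 = x} → G := fun p => p.1.1
  have hf : Function.Injective f := by
    rintro ⟨⟨u, v⟩, hp⟩ ⟨⟨u', v'⟩, hp'⟩ (h : u = u')
    subst h
    have hv : v = v' := mul_left_cancel (hp.2.2.trans hp'.2.2.symm)
    subst hv
    rfl
  have hsub : Set.range f ⊆ (Subgroup.centralizer ({x} : Set G) : Set G) \ {1, x} := by
    rintro _ ⟨⟨⟨u, v⟩, hu, hv, he⟩, rfl⟩
    have hc := conj_zpow_pair (mul_self_eq_one (hA _ hu)) (mul_self_eq_one (hB _ hv)) 1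
    simp only at he
    rw [zpow_one, he, inv_eq_self (mul_self_eq_one hx)] at hc
    refine ⟨Subgroup.mem_centralizer_singleton_iff.mpr (mul_inv_eq_iff_eq_mul.mp hc), ?_⟩
    simp only [Set.mem_insert_iff, Set.mem_singleton_iff, f, not_or]
    refine ⟨ne_one (hA _ hu), fun hux => ne_one (hB _ hv) ?_⟩
    rwa [hux, mul_eq_left] at he
  have h1 := Set.ncard_le_ncard hsub (Set.toFinite _)
  rw [Set.ncard_range_of_injective hf] at h1
  have h12 : ({1, x} : Set G).ncard = 2 := Set.ncard_pair (ne_one hx).symm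
  have h2 : ((Subgroup.centralizer ({x} : Set G) : Set G) \ {1, x}).ncard + 2 =
      Nat.card (Subgroup.centralizer ({x} : Set G)) := by
    have hs : ({1, x} : Set G) ⊆ (Subgroup.centralizer ({x} : Set G) : Set G) := by
      rintro z (rfl | rfl)
      · exact one_mem _
      · exact Subgroup.mem_centralizer_singleton_iff.mpr rfl
    rw [← h12, Set.ncard_sdiff_add_ncard_of_subset hs (Set.toFinite _)]
    exact Nat.card_coe_set_eq _
  omega

/-- The Brauer–Fowler counting inequality. -/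
theorem card_sq_le_card_add_sum [Fintype G] [DecidableEq G] (A : Set G) (hA : ∀ a ∈ A, orderOf a = 2)
    (f : G → ℕ)
    (hf : ∀ x : G, x ≠ 1 →
      Nat.card {p : G × G // p.1 ∈ A ∧ p.2 ∈ A ∧ p.1 * p.2 = x} ≤ f x) :
    A.ncard * A.ncard ≤ A.ncard + ∑ x ∈ Finset.univ.erase (1 : G), f x := by
  classical
  have key : A.ncard * A.ncard =
      ∑ x : G, Nat.card {p : G × G // p.1 ∈ A ∧ p.2 ∈ A ∧ p.1 * p.2 = x} := by
    rw [← Nat.card_coe_set_eq, ← Nat.card_prod, ← Nat.card_sigma]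
    refine Nat.card_congr
      { toFun := fun p => ⟨p.1.1 * p.2.1, (p.1.1, p.2.1), p.1.2, p.2.2, rfl⟩
        invFun := fun q => (⟨q.2.1.1, q.2.2.1⟩, ⟨q.2.1.2, q.2.2.2.1⟩)
        left_inv := fun p => rfl
        right_inv := ?_ }
    rintro ⟨x, ⟨u, v⟩, hu, hv, he⟩
    simp only at he
    subst he
    rfl
  have h1 : Nat.card {p : G × G // p.1 ∈ A ∧ p.2 ∈ A ∧ p.1 * p.2 = 1} = A.ncard := by
    rw [← Nat.card_coe_set_eq]
    refine Nat.card_congr
      { toFun := fun p => ⟨p.1.1, p.2.1⟩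
        invFun := fun a => ⟨(a.1, a.1), a.2, a.2, mul_self_eq_one (hA _ a.2)⟩
        left_inv := ?_
        right_inv := fun a => rfl }
    rintro ⟨⟨u, v⟩, hu, hv, he⟩
    simp only at he
    have hv' : v = u :=
      (inv_eq_of_mul_eq_one_right he).symm.trans (inv_eq_self (mul_self_eq_one (hA _ hu)))
    subst hv'
    rfl
  rw [key, ← Finset.add_sum_erase _ _ (Finset.mem_univ (1 : G)), h1]
  gcongr with x hx
  exact hf x (Finset.ne_of_mem_erase hx)

end Cfsg.Agent.Lib.Involution
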