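import Mathlib
import Cfsg.Agent.Lib.Involution.Basic

/-!
# Fusion in a Klein four Sylow 2-subgroup

Written by helper7.
-/

set_option autoImplicit false

open scoped Pointwise

namespace Cfsg.Agent.Lib.Involution

variable {G : Type*} [Group G] [Finite G]

theorem exists_conj_mem_sylow_two (P : Sylow 2 G) {t : G} (ht : orderOf t = 2) :
    ∃ g : G, g * t * g⁻¹ ∈ (P : Subgroup G) := by
  have : Fact (Nat.Prime 2) := ⟨Nat.prime_two⟩
  obtain ⟨R, hR⟩ := IsPGroup.exists_le_sylow (P := Subgroup.zpowers t) (p := 2)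
    (IsPGroup.of_card (n := 1) (by rw [Nat.card_zpowers, ht, pow_one]))
  obtain ⟨g, hg⟩ := MulAction.exists_smul_eq G R P
  refine ⟨g, ?_⟩
  rw [← hg, Sylow.coe_subgroup_smul]
  exact Subgroup.smul_mem_pointwise_smul _ (MulAut.conj g) _ (hR (Subgroup.mem_zpowers t))

variable (P : Sylow 2 G) (hP : IsKleinFour (P : Subgroup G))
include hP

theorem kleinFour_mul_self {a : G} (ha : a ∈ (P : Subgroup G)) : a * a = 1 := by
  haveI := hP
  exact congrArg Subtype.val (IsKleinFour.mul_self (⟨a, ha⟩ : (P : Subgroup G)))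

theorem kleinFour_commute {a b : G} (ha : a ∈ (P : Subgroup G)) (hb : b ∈ (P : Subgroup G)) :
    a * b = b * a := by
  have h := kleinFour_mul_self P hP ((P : Subgroup G).mul_mem ha hb)
  have := eq_inv_of_mul_eq_one_left h
  rwa [mul_inv_rev, inv_eq_self (kleinFour_mul_self P hP ha),
    inv_eq_self (kleinFour_mul_self P hP hb)] at this

theorem exists_normalizer_conj_of_isConj {a b : G} (ha : a ∈ (P : Subgroup G))
    (hb : b ∈ (P : Subgroup G)) (h : IsConj a b) :
    ∃ n ∈ Subgroup.normalizer ((P : Subgroup G) : Set G), n * a * n⁻¹ = b := by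
  have : Fact (Nat.Prime 2) := ⟨Nat.prime_two⟩
  obtain ⟨g, rfl⟩ := isConj_iff.mp h
  have : IsMulCommutative (P : Subgroup G) :=
    ⟨⟨fun u v => Subtype.ext (kleinFour_commute P hP u.2 v.2)⟩⟩
  obtain ⟨n, hn, he⟩ := P.conj_eq_normalizer_conj_of_mem a g⁻¹ ha (by rwa [inv_inv])
  refine ⟨n⁻¹, Subgroup.inv_mem _ hn, ?_⟩
  simpa using he.symm

/-- If two distinct involutions of the Klein four Sylow subgroup are conjugate, all three are. -/
theorem kleinFour_isConj_all {a b : G} (ha : a ∈ (P : Subgroup G)) (hb : b ∈ (P : Subgroup G))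
    (ha1 : a ≠ 1) (hab : a ≠ b) (h : IsConj a b) {c : G} (hc : c ∈ (P : Subgroup G)) (hc1 : c ≠ 1) :
    IsConj a c := by
  have : Fact (Nat.Prime 2) := ⟨Nat.prime_two⟩
  rcases eq_or_ne c a with rfl | hca
  · exact IsConj.refl _
  rcases eq_or_ne c b with rfl | hcb
  · exact h
  obtain ⟨n, hn, hnab⟩ := exists_normalizer_conj_of_isConj P hP ha hb h
  obtain ⟨s, m, hm, hord⟩ :=
    Nat.exists_eq_two_pow_mul_odd (n := orderOf n) (orderOf_pos _).ne'
  -- the odd part of `n` acts on `P` like `n`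
  obtain ⟨k, hk1, hk2⟩ := Nat.chineseRemainder (n := m) (m := 2 ^ s)
    (Nat.Coprime.pow_right _ hm.coprime_two_right) 1 0
  set n' := n ^ k with hn'
  have hn'N : n' ∈ Subgroup.normalizer ((P : Subgroup G) : Set G) := pow_mem hn k
  have hodd : Odd (orderOf n') := by
    refine hm.of_dvd_nat (orderOf_dvd_of_pow_eq_one ?_)
    rw [hn', ← pow_mul, ← orderOf_dvd_iff_pow_eq_one, hord, mul_comm k m, mul_comm (2 ^ s) m]
    exact Nat.mul_dvd_mul_left m (Nat.modEq_zero_iff_dvd.mp hk2)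
  set w := n * n'⁻¹ with hw
  have hwN : w ∈ Subgroup.normalizer ((P : Subgroup G) : Set G) :=
    Subgroup.mul_mem _ hn (Subgroup.inv_mem _ hn'N)
  have hwP : w ∈ (P : Subgroup G) := by
    have h2 : w ^ 2 ^ s = 1 := by
      have hcm : Commute n n'⁻¹ := ((Commute.refl n).pow_right k).inv_right
      rw [hw, hcm.mul_pow, inv_pow, mul_inv_eq_one, hn', ← pow_mul, pow_eq_pow_iff_modEq, hord]
      have := (hk1.mul_left' (2 ^ s))
      rw [mul_one] at this
      rw [mul_comm k]
      exact this.symm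
    have hwp : IsPGroup 2 (Subgroup.zpowers w) := by
      obtain ⟨j, -, hj⟩ := (Nat.dvd_prime_pow Nat.prime_two).mp (orderOf_dvd_of_pow_eq_one h2)
      exact IsPGroup.of_card (n := j) (by rw [Nat.card_zpowers, hj])
    have hsup : IsPGroup 2 ↥(Subgroup.zpowers w ⊔ (P : Subgroup G)) :=
      hwp.to_sup_of_normal_right' P.2 (Subgroup.zpowers_le.mpr hwN)
    rw [← P.3 hsup le_sup_right]
    exact Subgroup.mem_sup_left (Subgroup.mem_zpowers w)
  have hmem : n' * a * n'⁻¹ ∈ (P : Subgroup G) :=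
    (Subgroup.mem_normalizer_iff.mp hn'N a).mp ha
  have e1 : n' * a * n'⁻¹ = b := by
    have : w * (n' * a * n'⁻¹) * w⁻¹ = b := by
      rw [← hnab, hw]; group
    rwa [kleinFour_commute P hP hwP hmem, mul_inv_cancel_right] at this
  have hbmem : n' * b * n'⁻¹ ∈ (P : Subgroup G) :=
    (Subgroup.mem_normalizer_iff.mp hn'N b).mp hb
  have hne_a : n' * b * n'⁻¹ ≠ a := by
    intro hba
    apply hab
    have hsq : Commute (n' ^ 2) a := by
      show n' ^ 2 * a = a * n' ^ 2
      calc n' ^ 2 * a = n' * (n' * a * n'⁻¹) * n'⁻¹ * n' ^ 2 := by rw [pow_two]; group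
        _ = a * n' ^ 2 := by rw [e1, hba]
    obtain ⟨j, hj⟩ := hodd
    have : Commute n' a := by
      have h3 : (n' ^ 2) ^ (j + 1) = n' := by
        rw [← pow_mul, show 2 * (j + 1) = orderOf n' + 1 by omega, pow_succ, pow_orderOf_eq_one,
          one_mul]
      rw [← h3]; exact hsq.pow_left _
    rw [← e1, this.eq, mul_inv_cancel_right]
  have hne_b : n' * b * n'⁻¹ ≠ b := by
    intro hbb
    apply hab
    have h1 := e1.trans hbb.symm
    exact mul_left_cancel (mul_right_cancel h1)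
  have hne_1 : n' * b * n'⁻¹ ≠ 1 := by
    intro h1
    rw [conj_eq_one_iff] at h1
    exact ha1 (by simpa [h1] using e1)
  have hb1 : b ≠ 1 := by
    rintro rfl
    exact ha1 (by simpa using e1)
  -- `P = {1, a, b, c}`
  have hsub : ({1, a, b, c} : Set G) ⊆ ((P : Subgroup G) : Set G) := by
    rintro z (rfl | rfl | rfl | rfl)
    · exact one_mem _
    all_goals assumption
  have hcard : ({1, a, b, c} : Set G).ncard = 4 := by
    rw [Set.ncard_insert_of_notMem (by simp [ha1.symm, hb1.symm, hc1.symm]),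
      Set.ncard_insert_of_notMem (by simp [hab, hca.symm]),
      Set.ncard_pair hcb.symm]
  have hall : ((P : Subgroup G) : Set G) = {1, a, b, c} := by
    refine (Set.eq_of_subset_of_ncard_le hsub ?_ (Set.toFinite _)).symm
    rw [hcard, ← Nat.card_coe_set_eq]
    haveI := hP
    exact (IsKleinFour.card_four (G := (P : Subgroup G))).le
  have : n' * b * n'⁻¹ = c := by
    have h4 : n' * b * n'⁻¹ ∈ ({1, a, b, c} : Set G) := hall ▸ hbmem
    rcases h4 with h4 | h4 | h4 | h4
    · exact absurd h4 hne_1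
    · exact absurd h4 hne_a
    · exact absurd h4 hne_b
    · exact h4
  exact h.trans (isConj_iff.mpr ⟨n', this⟩)

/-- A Klein four Sylow subgroup without fusion has a normal complement, and conversely. -/
theorem kleinFour_exists_complement_iff :
    (∃ N : Subgroup G, N.Normal ∧ Subgroup.IsComplement' N (P : Subgroup G)) ↔
      ∀ a ∈ (P : Subgroup G), ∀ b ∈ (P : Subgroup G), IsConj a b → a = b := by
  have : Fact (Nat.Prime 2) := ⟨Nat.prime_two⟩
  constructor
  · rintro ⟨N, hN, hc⟩ a ha b hb h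
    obtain ⟨g, rfl⟩ := isConj_iff.mp h
    obtain ⟨⟨u, q⟩, huq, -⟩ := hc.existsUnique g
    have hq : (q : G) * a = a * q := kleinFour_commute P hP q.2 ha
    have h2 : g * a * g⁻¹ * a⁻¹ ∈ N := by
      rw [← (show (u : G) * q = g from huq),
        show (u : G) * q * a * ((u : G) * q)⁻¹ * a⁻¹ = u * ((q : G) * a * (q : G)⁻¹) * (u : G)⁻¹ * a⁻¹
          by group, hq, mul_inv_cancel_right,
        show (u : G) * a * (u : G)⁻¹ * a⁻¹ = u * (a * (u : G)⁻¹ * a⁻¹) by group]
      exact N.mul_mem u.2 (hN.conj_mem _ (N.inv_mem u.2) a)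
    have h3 : g * a * g⁻¹ * a⁻¹ ∈ N ⊓ (P : Subgroup G) :=
      ⟨h2, Subgroup.mul_mem _ hb (Subgroup.inv_mem _ ha)⟩
    rw [hc.disjoint.eq_bot, Subgroup.mem_bot, mul_inv_eq_one] at h3
    exact h3.symm
  · intro h
    have hN : Subgroup.normalizer ((P : Subgroup G) : Set G) ≤
        Subgroup.centralizer ((P : Subgroup G) : Set G) := by
      intro n hn
      rw [Subgroup.mem_centralizer_iff]
      intro a ha
      have h1 := h a ha (n * a * n⁻¹) ((Subgroup.mem_normalizer_iff.mp hn a).mp ha)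
        (isConj_iff.mpr ⟨n, rfl⟩)
      nth_rewrite 1 [h1]
      rw [inv_mul_cancel_right]
    exact ⟨(MonoidHom.transferSylow P hN).ker, inferInstance,
      MonoidHom.ker_transferSylow_isComplement' P hN⟩

theorem kleinFour_card_classes_eq_one {a b : G} (ha : a ∈ (P : Subgroup G))
    (hb : b ∈ (P : Subgroup G)) (hab : a ≠ b) (h : IsConj a b) :
    Nat.card {C : ConjClasses G // ∃ t : G, orderOf t = 2 ∧ ConjClasses.mk t = C} = 1 := by
  have ha1 : a ≠ 1 := by
    rintro rfl
    obtain ⟨g, hg⟩ := isConj_iff.mp h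
    exact hab (by simpa using hg)
  have ha2 : orderOf a = 2 := orderOf_eq_two (kleinFour_mul_self P hP ha) ha1
  rw [Nat.card_eq_one_iff_unique]
  refine ⟨⟨?_⟩, ⟨⟨_, a, ha2, rfl⟩⟩⟩
  have key : ∀ C : {C : ConjClasses G // ∃ t : G, orderOf t = 2 ∧ ConjClasses.mk t = C},
      C.1 = ConjClasses.mk a := by
    rintro ⟨_, t, ht, rfl⟩
    obtain ⟨g, hg⟩ := exists_conj_mem_sylow_two P ht
    have hg1 : g * t * g⁻¹ ≠ 1 := ne_one (by rw [orderOf_conj_eq, ht])
    exact ConjClasses.mk_eq_mk_iff_isConj.mpr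
      ((isConj_iff.mpr ⟨g, rfl⟩ : IsConj t (g * t * g⁻¹)).trans
        (kleinFour_isConj_all P hP ha hb ha1 hab h hg hg1).symm)
  exact fun C D => Subtype.ext ((key C).trans (key D).symm)

theorem kleinFour_card_classes_eq_three
    (h : ∀ a ∈ (P : Subgroup G), ∀ b ∈ (P : Subgroup G), IsConj a b → a = b) :
    Nat.card {C : ConjClasses G // ∃ t : G, orderOf t = 2 ∧ ConjClasses.mk t = C} = 3 := by
  let f : {t : G // t ∈ (P : Subgroup G) ∧ t ≠ 1} →
      {C : ConjClasses G // ∃ t : G, orderOf t = 2 ∧ ConjClasses.mk t = C} :=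
    fun t => ⟨ConjClasses.mk t.1, t.1, orderOf_eq_two (kleinFour_mul_self P hP t.2.1) t.2.2, rfl⟩
  have hf : Function.Bijective f := by
    constructor
    · intro s t hst
      exact Subtype.ext (h _ s.2.1 _ t.2.1
        (ConjClasses.mk_eq_mk_iff_isConj.mp (congrArg Subtype.val hst)))
    · rintro ⟨_, t, ht, rfl⟩
      obtain ⟨g, hg⟩ := exists_conj_mem_sylow_two P ht
      refine ⟨⟨g * t * g⁻¹, hg, ne_one (by rw [orderOf_conj_eq, ht])⟩, Subtype.ext ?_⟩
      exact ConjClasses.mk_eq_mk_iff_isConj.mpr (isConj_iff.mpr ⟨g, rfl⟩ : IsConj t _).symm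
  rw [← Nat.card_eq_of_bijective f hf]
  have : Nat.card {t : G // t ∈ (P : Subgroup G) ∧ t ≠ 1} =
      (((P : Subgroup G) : Set G) \ {1}).ncard := Nat.card_coe_set_eq _
  rw [this, Set.ncard_sdiff_singleton_of_mem (one_mem _), ← Nat.card_coe_set_eq]
  haveI := hP
  rw [show Nat.card ((P : Subgroup G) : Set G) = 4 from IsKleinFour.card_four (G := (P : Subgroup G))]

end Cfsg.Agent.Lib.Involution
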