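import Mathlib
import Cfsg.Agent.Lib.Involution.BrauerFowler
import Cfsg.Agent.Lib.Involution.ThompsonTransfer

/-!
# The Brauer–Fowler theorems

Written by helper7.
-/

set_option autoImplicit false

namespace Cfsg.Agent.Lib.Involution

universe u

/-- Without central involutions, `|G| < h ^ 3` for some centraliser order `h` of a noncentral
element. -/
theorem exists_centralizer_cube_gt {G : Type u} [Group G] [Finite G] (t : G) (ht : orderOf t = 2)
    (hc : ∀ z : G, orderOf z = 2 → Subgroup.centralizer ({z} : Set G) ≠ ⊤) :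
    ∃ x : G, Subgroup.centralizer ({x} : Set G) ≠ ⊤ ∧
      Nat.card G < Nat.card (Subgroup.centralizer ({x} : Set G)) ^ 3 := by
  classical
  have := Fintype.ofFinite G
  have : Nonempty {x : G // Subgroup.centralizer ({x} : Set G) ≠ ⊤} := ⟨⟨t, hc t ht⟩⟩
  obtain ⟨⟨x, hx⟩, hmax⟩ := Finite.exists_max
    (fun x : {x : G // Subgroup.centralizer ({x} : Set G) ≠ ⊤} =>
      Nat.card (Subgroup.centralizer ({x.1} : Set G)))
  refine ⟨x, hx, ?_⟩
  simp only at hmax
  set h := Nat.card (Subgroup.centralizer ({x} : Set G)) with hh
  set n := Nat.card (Subgroup.centralizer ({t} : Set G)) with hn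
  set K : Set G := {y | IsConj t y} with hK
  set k := K.ncard with hk
  have hKinv : ∀ a ∈ K, orderOf a = 2 := fun a ha => (isConj_orderOf ha).trans ht
  have hkn : k * n = Nat.card G := by
    rw [hk, ← Nat.card_coe_set_eq]; exact card_isConj_mul_card_centralizer t
  set c : G → ℕ := fun y => Nat.card {p : G × G // p.1 ∈ K ∧ p.2 ∈ K ∧ p.1 * p.2 = y} with hcdef
  have hsum := card_sq_le_card_add_sum K hKinv c (fun y _ => le_rfl)
  rw [← hk] at hsum
  have hpt : ∀ y ∈ Finset.univ.erase (1 : G), c y + (if y ∈ K then 2 else 0) ≤ h := by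
    intro y hy
    have hy1 : y ≠ 1 := Finset.ne_of_mem_erase hy
    by_cases hyc : Subgroup.centralizer ({y} : Set G) = ⊤
    · have hnot : y ∉ K := fun hyK => hc y (hKinv y hyK) hyc
      have hnr : ¬ IsConj y y⁻¹ := by
        intro hr
        obtain ⟨g, hg⟩ := isConj_iff.mp hr
        have hgy : g * y = y * g := Subgroup.mem_centralizer_singleton_iff.mp
          (hyc ▸ Subgroup.mem_top g)
        rw [hgy, mul_inv_cancel_right] at hg
        exact hc y (orderOf_eq_two (mul_eq_one_iff_eq_inv.mpr hg) hy1) hyc
      simp only [hcdef, if_neg hnot, card_pairs_eq_zero y K K hKinv hKinv hnr]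
      omega
    · refine le_trans ?_ (hmax ⟨y, hyc⟩)
      split_ifs with hyK
      · exact card_pairs_add_two_le y K K hKinv hKinv (hKinv y hyK)
      · exact (Nat.add_zero _).trans_le (card_pairs_le_centralizer y K K hKinv hKinv)
  have hle := Finset.sum_le_sum hpt
  rw [Finset.sum_add_distrib, Finset.sum_const, smul_eq_mul,
    Finset.card_erase_of_mem (Finset.mem_univ _), Finset.card_univ, ← Nat.card_eq_fintype_card]
    at hle
  have hKcard : ∑ y ∈ Finset.univ.erase (1 : G), (if y ∈ K then 2 else 0) = 2 * k := by
    rw [← Finset.sum_filter, Finset.sum_const, smul_eq_mul, mul_comm]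
    congr 1
    rw [hk, Set.ncard_eq_toFinset_card' K]
    congr 1
    ext y
    simp only [Finset.mem_filter, Finset.mem_erase, Finset.mem_univ, and_true, Set.mem_toFinset]
    exact ⟨fun hy => hy.2, fun hy => ⟨ne_one (hKinv y hy), hy⟩⟩
  rw [hKcard] at hle
  have hg1 : 1 ≤ Nat.card G := Nat.card_pos
  have hnh : n ≤ h := hmax ⟨t, hc t ht⟩
  have hnpos : 0 < n := Nat.card_pos
  have hpos : 0 < h := lt_of_lt_of_le hnpos hnh
  rw [← hkn] at hle ⊢
  have h1 : k * k + k ≤ (k * n - 1) * h := le_trans (by omega) hle
  have hkpos : 0 < k := by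
    rcases Nat.eq_zero_or_pos k with h0 | h0
    · rw [h0, zero_mul] at hkn; omega
    · exact h0
  have h2 : (k * n - 1) * h < k * n * h := by
    apply Nat.mul_lt_mul_of_pos_right _ hpos
    have : 0 < k * n := Nat.mul_pos hkpos hnpos
    omega
  have h3 : k + 1 < n * h := by
    have : k * (k + 1) < k * (n * h) := by
      calc k * (k + 1) = k * k + k := by ring
        _ ≤ _ := h1
        _ < k * n * h := h2
        _ = k * (n * h) := by ring
    exact Nat.lt_of_mul_lt_mul_left this
  calc k * n < n * h * n := Nat.mul_lt_mul_of_pos_right (by omega) hnpos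
    _ ≤ h * h * h := Nat.mul_le_mul (Nat.mul_le_mul hnh le_rfl) hnh
    _ = h ^ 3 := by ring

/-- Brauer–Fowler: a group of even order greater than 2 has a proper subgroup `H` with
`|G| < |H| ^ 3`. -/
theorem brauer_fowler_cube (m : ℕ) : ∀ (G : Type u) [Group G] [Finite G], Nat.card G = m →
    Even m → 2 < m → ∃ H : Subgroup G, H ≠ ⊤ ∧ m < (Nat.card H) ^ 3 := by
  induction m using Nat.strong_induction_on with
  | _ m ih =>
  intro G _ _ hm heven hgt
  have : Fact (Nat.Prime 2) := ⟨Nat.prime_two⟩
  by_cases hz : ∃ z : G, orderOf z = 2 ∧ Subgroup.centralizer ({z} : Set G) = ⊤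
  · obtain ⟨z, hz2, hzc⟩ := hz
    haveI : (Subgroup.zpowers z).Normal := ⟨fun w hw g => by
      obtain ⟨j, rfl⟩ := hw
      have hc : Commute g z := Subgroup.mem_centralizer_singleton_iff.mp (hzc ▸ Subgroup.mem_top g)
      show g * z ^ j * g⁻¹ ∈ _
      rw [(hc.zpow_right j).eq, mul_inv_cancel_right]
      exact zpow_mem (Subgroup.mem_zpowers z) j⟩
    have hcardQ : 2 * Nat.card (G ⧸ Subgroup.zpowers z) = m := by
      rw [← hm, Subgroup.card_eq_card_quotient_mul_card_subgroup (Subgroup.zpowers z),
        Nat.card_zpowers, hz2, mul_comm]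
    set q := Nat.card (G ⧸ Subgroup.zpowers z) with hq
    rcases Nat.even_or_odd q with hqe | hqo
    · by_cases hq2 : q = 2
      · refine ⟨Subgroup.zpowers z, fun h => ?_, ?_⟩
        · have := congrArg (fun H : Subgroup G => Nat.card H) h
          simp only [Nat.card_zpowers, hz2, Subgroup.card_top, hm] at this
          omega
        · rw [Nat.card_zpowers, hz2]; omega
      · have hq2' : 2 < q := by
          obtain ⟨j, hj⟩ := hqe; omega
        obtain ⟨H, hH, hlt⟩ := ih q (by omega) (G ⧸ Subgroup.zpowers z) hq.symm hqe hq2'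
        refine ⟨H.comap (QuotientGroup.mk' _), fun h => hH ?_, ?_⟩
        · apply Subgroup.comap_injective (QuotientGroup.mk'_surjective (Subgroup.zpowers z))
          rw [h, Subgroup.comap_top]
        · have hcard : Nat.card (H.comap (QuotientGroup.mk' (Subgroup.zpowers z))) =
              2 * Nat.card H := by
            have h1 := Subgroup.index_comap_of_surjective H
              (QuotientGroup.mk'_surjective (Subgroup.zpowers z))
            have h2 := (H.comap (QuotientGroup.mk' (Subgroup.zpowers z))).card_mul_index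
            have h3 := H.card_mul_index
            rw [h1, hm, ← hcardQ] at h2
            have hi : 0 < H.index := Nat.pos_of_ne_zero Subgroup.index_ne_zero_of_finite
            apply Nat.eq_of_mul_eq_mul_right hi
            rw [h2, mul_assoc, h3]
          rw [hcard, mul_pow]
          omega
    · obtain ⟨T⟩ : Nonempty (Sylow 2 G) := inferInstance
      have hT : Nat.card (T : Subgroup G) = 2 := by
        rw [T.card_eq_multiplicity, hm, ← hcardQ, Nat.factorization_mul (by norm_num) hqo.pos.ne',
          Finsupp.add_apply, Nat.Prime.factorization_self Nat.prime_two,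
          Nat.factorization_eq_zero_of_not_dvd hqo.not_two_dvd_nat]
        norm_num
      obtain ⟨H, -, hH⟩ := exists_index_two_of_isCyclic_sylow (hm ▸ heven) T
        (isCyclic_of_prime_card hT)
      refine ⟨H, fun h => by rw [h, Subgroup.index_top] at hH; omega, ?_⟩
      have h2 := H.card_mul_index
      rw [hH, hm] at h2
      have h3 : Nat.card H ≥ 2 := by omega
      have h4 : Nat.card H * 4 ≤ Nat.card H ^ 3 := by
        rw [pow_succ, mul_comm (Nat.card H) 4, mul_comm 4]
        nlinarith
      omega
  · push_neg at hz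
    obtain ⟨t, ht⟩ := exists_prime_orderOf_dvd_card' (G := G) 2
      (hm ▸ even_iff_two_dvd.mp heven)
    obtain ⟨x, hx, hlt⟩ := exists_centralizer_cube_gt t ht hz
    exact ⟨_, hx, hm ▸ hlt⟩

/-- The Brauer–Fowler index bound. -/
theorem brauer_fowler_index {G : Type u} [Group G] [Finite G] (heven : Even (Nat.card G))
    (hZ : Odd (Nat.card (Subgroup.center G))) :
    ∃ H : Subgroup G, H ≠ ⊤ ∧ (H.index = 2 ∨ 2 * H.index * (Nat.card {t : G // orderOf t = 2}) ^ 2 <
      Nat.card G * (Nat.card G + Nat.card {t : G // orderOf t = 2})) := by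
  classical
  have := Fintype.ofFinite G
  by_contra hcon
  push_neg at hcon
  set n := Nat.card {t : G // orderOf t = 2} with hn
  set g := Nat.card G with hg
  have hb : ∀ H : Subgroup G, H ≠ ⊤ → Nat.card H * (g + n) ≤ 2 * n ^ 2 := by
    intro H hH
    have h1 := (hcon H hH).2
    have h2 := H.card_mul_index
    have hi : 0 < H.index := Nat.pos_of_ne_zero Subgroup.index_ne_zero_of_finite
    apply Nat.le_of_mul_le_mul_right _ hi
    calc Nat.card H * (g + n) * H.index = Nat.card H * H.index * (g + n) := by ring
      _ = g * (g + n) := by rw [h2]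
      _ ≤ _ := h1
      _ = 2 * n ^ 2 * H.index := by ring
  set I : Set G := {t | orderOf t = 2} with hI
  have hIn : I.ncard = n := (Nat.card_coe_set_eq I).symm
  have hIinv : ∀ a ∈ I, orderOf a = 2 := fun a ha => ha
  set c : G → ℕ := fun y => Nat.card {p : G × G // p.1 ∈ I ∧ p.2 ∈ I ∧ p.1 * p.2 = y} with hcdef
  have hsum := card_sq_le_card_add_sum I hIinv c (fun y _ => le_rfl)
  rw [hIn] at hsum
  have hpt : ∀ y ∈ Finset.univ.erase (1 : G),
      c y * (g + n) + (if y ∈ I then 2 * (g + n) else 0) ≤
        n ^ 2 + (if y ∈ I then n ^ 2 else 0) := by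
    intro y hy
    have hy1 : y ≠ 1 := Finset.ne_of_mem_erase hy
    by_cases hyI : y ∈ I
    · have hne : Subgroup.centralizer ({y} : Set G) ≠ ⊤ := by
        intro h
        apply Nat.not_even_iff_odd.mpr hZ
        refine even_card_of_mem (hIinv y hyI) (Subgroup.mem_center_iff.mpr fun w => ?_)
        exact Subgroup.mem_centralizer_singleton_iff.mp (h ▸ Subgroup.mem_top w)
      simp only [if_pos hyI]
      calc c y * (g + n) + 2 * (g + n) = (c y + 2) * (g + n) := by ring
        _ ≤ Nat.card (Subgroup.centralizer ({y} : Set G)) * (g + n) :=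
          Nat.mul_le_mul_right _ (card_pairs_add_two_le y I I hIinv hIinv hyI)
        _ ≤ 2 * n ^ 2 := hb _ hne
        _ = n ^ 2 + n ^ 2 := by ring
    · simp only [if_neg hyI, Nat.add_zero]
      by_cases hr : IsConj y y⁻¹
      · set C := Subgroup.centralizer ({y} : Set G) with hC
        have hyinv : y⁻¹ ≠ y := fun h => hyI (orderOf_eq_two (by
          nth_rewrite 1 [← h]; exact inv_mul_cancel y) hy1)
        let Cs : Subgroup G :=
          { carrier := {w | w * y * w⁻¹ = y ∨ w * y * w⁻¹ = y⁻¹}
            one_mem' := Or.inl (by simp)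
            mul_mem' := by
              intro v w hv hw
              have e : v * w * y * (v * w)⁻¹ = v * (w * y * w⁻¹) * v⁻¹ := by group
              rcases hw with hw | hw
              · rcases hv with hv | hv
                · exact Or.inl (by rw [e, hw, hv])
                · exact Or.inr (by rw [e, hw, hv])
              · rcases hv with hv | hv
                · exact Or.inr (by rw [e, hw, ← conj_inv, hv])
                · exact Or.inl (by rw [e, hw, ← conj_inv, hv, inv_inv])
            inv_mem' := by
              intro v hv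
              rcases hv with hv | hv
              · left
                calc v⁻¹ * y * v⁻¹⁻¹ = v⁻¹ * (v * y * v⁻¹) * v := by rw [hv]; group
                  _ = y := by group
              · right
                have hv' : v * y⁻¹ * v⁻¹ = y := by rw [← conj_inv, hv, inv_inv]
                calc v⁻¹ * y * v⁻¹⁻¹ = v⁻¹ * (v * y⁻¹ * v⁻¹) * v := by rw [hv']; group
                  _ = y⁻¹ := by group }
        have hset : (Cs : Set G) = (C : Set G) ∪ {w | w * y * w⁻¹ = y⁻¹} := by
          ext w
          show (w * y * w⁻¹ = y ∨ w * y * w⁻¹ = y⁻¹) ↔ _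
          simp only [Set.mem_union, SetLike.mem_coe, Set.mem_setOf_eq, hC,
            Subgroup.mem_centralizer_singleton_iff, mul_inv_eq_iff_eq_mul]
        have hdis : Disjoint (C : Set G) {w | w * y * w⁻¹ = y⁻¹} := by
          rw [Set.disjoint_left]
          intro w hw hw'
          have h := Subgroup.mem_centralizer_singleton_iff.mp hw
          rw [Set.mem_setOf_eq, h, mul_inv_cancel_right] at hw'
          exact hyinv hw'.symm
        have hCs : Nat.card Cs = 2 * Nat.card C := by
          show Nat.card (Cs : Set G) = _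
          rw [Nat.card_coe_set_eq, hset, Set.ncard_union_eq hdis (Set.toFinite _) (Set.toFinite _),
            ← Nat.card_coe_set_eq, ← Nat.card_coe_set_eq]
          show Nat.card C + Nat.card {w : G // w * y * w⁻¹ = y⁻¹} = _
          rw [show Nat.card {w : G // w * y * w⁻¹ = y⁻¹} = Nat.card C from card_conjugators hr]
          omega
        have hne : Cs ≠ ⊤ := by
          intro h
          rw [h, Subgroup.card_top] at hCs
          have hmul := C.card_mul_index
          rw [hCs] at hmul
          have hidx : C.index = 2 := by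
            have hpos : 0 < Nat.card C := Nat.card_pos
            exact Nat.eq_of_mul_eq_mul_left hpos (by rw [hmul]; ring)
          exact (hcon C (fun h' => by rw [h', Subgroup.index_top] at hidx; omega)).1 hidx
        have h1 := hb Cs hne
        rw [hCs, mul_assoc] at h1
        exact (Nat.mul_le_mul_right _ (card_pairs_le_centralizer y I I hIinv hIinv)).trans
          (Nat.le_of_mul_le_mul_left h1 two_pos)
      · simp only [hcdef, card_pairs_eq_zero y I I hIinv hIinv hr, zero_mul]
        exact Nat.zero_le _
  have hle := Finset.sum_le_sum hpt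
  rw [Finset.sum_add_distrib, Finset.sum_add_distrib, Finset.sum_const, smul_eq_mul,
    Finset.card_erase_of_mem (Finset.mem_univ _), Finset.card_univ, ← Nat.card_eq_fintype_card,
    ← Finset.sum_mul] at hle
  have hIcard : ∀ v : ℕ, ∑ y ∈ Finset.univ.erase (1 : G), (if y ∈ I then v else 0) = n * v := by
    intro v
    rw [← Finset.sum_filter, Finset.sum_const, smul_eq_mul]
    congr 1
    rw [← hIn, Set.ncard_eq_toFinset_card' I]
    congr 1
    ext y
    simp only [Finset.mem_filter, Finset.mem_erase, Finset.mem_univ, and_true, Set.mem_toFinset]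
    exact ⟨fun hy => hy.2, fun hy => ⟨ne_one (hIinv y hy), hy⟩⟩
  rw [hIcard, hIcard, ← hg] at hle
  have hnpos : 0 < n := by
    have := odd_card_involutions heven
    exact this.pos
  have hsum2 := Nat.mul_le_mul_right (g + n) hsum
  have hgpos : 0 < g := Nat.card_pos
  obtain ⟨g', hg'⟩ : ∃ g', g = g' + 1 := ⟨g - 1, by omega⟩
  rw [hg', Nat.add_sub_cancel] at hle
  rw [hg'] at hsum2
  nlinarith

end Cfsg.Agent.Lib.Involution
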