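import Mathlib
import Cfsg.Agent.Lib.Involution.Basic

/-!
# A 2-group of 2-rank at least 3: normal four-groups and elementary abelian subgroups of order 8

Written by helper7.
-/

set_option autoImplicit false

namespace Cfsg.Agent.Lib.Involution

/-- A nontrivial normal subgroup of a `p`-group contains a central element other than `1`. -/
theorem exists_central_ne_one_of_normal {Q : Type*} [Group Q] [Finite Q] {p : ℕ} [Fact p.Prime]
    (hQ : IsPGroup p Q) (N : Subgroup Q) (hN : N.Normal) (hne : N ≠ ⊥) :
    ∃ c ∈ N, c ≠ 1 ∧ ∀ q : Q, q * c = c * q := by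
  letI : MulAction Q N :=
    { smul := fun q c => ⟨q * c * q⁻¹, hN.conj_mem c c.2 q⟩
      one_smul := fun c => Subtype.ext (show (1 : Q) * (c : Q) * (1 : Q)⁻¹ = c by simp)
      mul_smul := fun q r c => Subtype.ext
        (show q * r * (c : Q) * (q * r)⁻¹ = q * (r * c * r⁻¹) * q⁻¹ by group) }
  have h1 : (1 : N) ∈ MulAction.fixedPoints Q N := fun q =>
    Subtype.ext (show q * ((1 : N) : Q) * q⁻¹ = _ by simp)
  have hdvd : p ∣ Nat.card N := by
    rcases (hQ.to_subgroup N).card_eq_or_dvd with h | h
    · exact absurd (Subgroup.eq_bot_of_card_eq N h) hne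
    · exact h
  obtain ⟨c, hc, hc1⟩ := hQ.exists_fixed_point_of_prime_dvd_card_of_fixed_point N hdvd h1
  refine ⟨c, c.2, fun h => hc1 (Subtype.ext h.symm), fun q => ?_⟩
  exact mul_inv_eq_iff_eq_mul.mp (congrArg Subtype.val (hc q))

/-- In a 2-group with an elementary abelian subgroup of order 8 there is a normal four-group. -/
theorem exists_normal_four {T : Type*} [Group T] [Finite T] (hT : IsPGroup 2 T) (E : Subgroup T)
    (hE : Nat.card E = 8) (hE2 : ∀ e ∈ E, e * e = 1) :
    ∃ z u : T, orderOf z = 2 ∧ (∀ g : T, g * z = z * g) ∧ orderOf u = 2 ∧ u ≠ z ∧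
      ∀ g : T, g * u * g⁻¹ = u ∨ g * u * g⁻¹ = z * u := by
  classical
  have : Fact (Nat.Prime 2) := ⟨Nat.prime_two⟩
  haveI : Nontrivial T := by
    rw [← Finite.one_lt_card_iff_nontrivial]
    have := Nat.le_of_dvd Nat.card_pos (hE ▸ E.card_subgroup_dvd_card)
    omega
  haveI := hT.center_nontrivial
  obtain ⟨z0, hz0⟩ := exists_prime_orderOf_dvd_card' (G := Subgroup.center T) 2 (by
    rcases (hT.to_subgroup (Subgroup.center T)).card_eq_or_dvd with h | h
    · have := Finite.one_lt_card (α := Subgroup.center T); omega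
    · exact h)
  rw [← Subgroup.orderOf_coe] at hz0
  set z : T := (z0 : T) with hzdef
  have hzc : ∀ g : T, g * z = z * g := fun g => Subgroup.mem_center_iff.mp z0.2 g
  refine ⟨z, ?_⟩
  -- a maximal normal cyclic subgroup containing `z`
  have : Nonempty {a : T // z ∈ Subgroup.zpowers a ∧
      ∀ g : T, g * a * g⁻¹ ∈ Subgroup.zpowers a} :=
    ⟨⟨z, Subgroup.mem_zpowers z, fun g => by
      rw [hzc g, mul_inv_cancel_right]; exact Subgroup.mem_zpowers z⟩⟩
  obtain ⟨⟨a, hza, han⟩, hmax⟩ := Finite.exists_max
    (fun a : {a : T // z ∈ Subgroup.zpowers a ∧ ∀ g : T, g * a * g⁻¹ ∈ Subgroup.zpowers a} =>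
      orderOf a.1)
  simp only at hmax
  set A := Subgroup.zpowers a with hA
  have hAnorm : A.Normal := ⟨fun n hn g => by
    obtain ⟨k, rfl⟩ := hn
    show g * a ^ k * g⁻¹ ∈ A
    rw [← conj_zpow]
    exact zpow_mem (han g) k⟩
  have hsq : ∀ w ∈ A, w * w = 1 → w = 1 ∨ w = z := by
    intro w hw hww
    rcases eq_or_ne w 1 with h | h
    · exact Or.inl h
    · exact Or.inr (eq_of_mem_zpowers (orderOf_eq_two hww h) hz0 hw hza)
  obtain ⟨n, hn⟩ := IsPGroup.iff_orderOf.mp hT a
  obtain ⟨n, rfl⟩ : ∃ m, n = m + 1 := by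
    rcases n with _ | m
    · exfalso
      rw [pow_zero, orderOf_eq_one_iff] at hn
      subst hn
      rw [hA, Subgroup.zpowers_one_eq_bot, Subgroup.mem_bot] at hza
      exact ne_one hz0 hza
    · exact ⟨m, rfl⟩
  by_cases hb : ∀ b : T, b * a = a * b → b ∈ A
  · -- `A` is self-centralising
    have hhalf : ∀ e ∈ E, e * a * e⁻¹ = a ∨ e * a * e⁻¹ = a⁻¹ ∨ e * a * e⁻¹ = a * z ∨
        e * a * e⁻¹ = a⁻¹ * z := by
      intro e he
      obtain ⟨k, hk⟩ := han e
      simp only at hk
      have hkk : a ^ (k * k) = a := by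
        rw [zpow_mul, hk, conj_zpow, hk,
          show e * (e * a * e⁻¹) * e⁻¹ = e * e * a * (e * e)⁻¹ by group, hE2 e he]
        simp
      have hdvd : (2 : ℤ) ^ (n + 1) ∣ (k - 1) * (k + 1) := by
        have h' : a ^ (k * k) = a ^ (1 : ℤ) := by rw [zpow_one]; exact hkk
        rw [← orderOf_dvd_sub_iff_zpow_eq_zpow, hn] at h'
        push_cast at h'
        rwa [show (k - 1) * (k + 1) = k * k - 1 by ring]
      rcases Int.even_or_odd k with ⟨m, rfl⟩ | ⟨m, rfl⟩
      · exfalso
        have h2 : (2 : ℤ) ∣ (m + m - 1) * (m + m + 1) :=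
          (dvd_pow_self (2 : ℤ) (Nat.succ_ne_zero n)).trans hdvd
        rcases Int.prime_two.dvd_mul.mp h2 with h | h <;> omega
      · have hd : (2 : ℤ) ^ (n + 1) ∣ 4 * m ∨ (2 : ℤ) ^ (n + 1) ∣ 4 * (m + 1) := by
          have h4 : (2 : ℤ) ^ (n + 1) ∣ 4 * (m * (m + 1)) := by
            convert hdvd using 1; ring
          rcases n with _ | n
          · exact Or.inl ⟨2 * m, by ring⟩
          · have h2 : (2 : ℤ) ^ n ∣ m * (m + 1) := by
              obtain ⟨c, hc⟩ := h4
              exact ⟨c, by rw [pow_succ, pow_succ] at hc; linarith⟩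
            have e4 : (2 : ℤ) ^ (n + 1 + 1) = 4 * 2 ^ n := by ring
            rw [e4]
            rcases Int.even_or_odd m with ⟨c, hc⟩ | ⟨c, hc⟩
            · refine Or.inl (mul_dvd_mul_left 4 ?_)
              have hcp : IsCoprime ((2 : ℤ) ^ n) (m + 1) :=
                IsCoprime.pow_left ⟨-c, 1, by omega⟩
              exact hcp.dvd_of_dvd_mul_right h2
            · refine Or.inr (mul_dvd_mul_left 4 ?_)
              have hcp : IsCoprime ((2 : ℤ) ^ n) m :=
                IsCoprime.pow_left ⟨-c, 1, by omega⟩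
              exact hcp.dvd_of_dvd_mul_left h2
        have hpow : ∀ j : ℤ, (2 : ℤ) ^ (n + 1) ∣ j → a ^ j = 1 := by
          intro j hj
          rw [← orderOf_dvd_iff_zpow_eq_one, hn]
          push_cast
          exact hj
        rcases hd with hd | hd
        · rcases hsq (a ^ (2 * m)) (zpow_mem (Subgroup.mem_zpowers a) _)
            (by rw [← zpow_add]; exact hpow _ (by rwa [show 2 * m + 2 * m = 4 * m by ring]))
            with h | h
          · left
            rw [← hk, zpow_add, h, zpow_one, one_mul]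
          · right; right; left
            rw [← hk, zpow_add, h, zpow_one, hzc a]
        · rcases hsq (a ^ (2 * (m + 1))) (zpow_mem (Subgroup.mem_zpowers a) _)
            (by rw [← zpow_add]
                exact hpow _ (by rwa [show 2 * (m + 1) + 2 * (m + 1) = 4 * (m + 1) by ring]))
            with h | h
          · right; left
            rw [← hk, show 2 * m + 1 = 2 * (m + 1) - 1 by ring, zpow_sub, h, zpow_one, one_mul]
          · right; right; right
            rw [← hk, show 2 * m + 1 = 2 * (m + 1) - 1 by ring, zpow_sub, h, zpow_one, hzc a⁻¹]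
    -- all four values occur
    haveI : Fintype E := Fintype.ofFinite E
    have hcount : ({a, a⁻¹, a * z, a⁻¹ * z} : Finset T) = Finset.image (fun e : E => (e : T) * a * (e : T)⁻¹)
        Finset.univ ∧ ({a, a⁻¹, a * z, a⁻¹ * z} : Finset T).card = 4 := by
      have hsub : Finset.image (fun e : E => (e : T) * a * (e : T)⁻¹) Finset.univ ⊆
          ({a, a⁻¹, a * z, a⁻¹ * z} : Finset T) := by
        intro w hw
        obtain ⟨e, -, rfl⟩ := Finset.mem_image.mp hw
        simpa only [Finset.mem_insert, Finset.mem_singleton] using hhalf e e.2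
      have hfib := Finset.card_le_mul_card_image (s := (Finset.univ : Finset E))
        (f := fun e : E => (e : T) * a * (e : T)⁻¹) 2 (by
          intro w hw
          obtain ⟨e0, -, he0⟩ := Finset.mem_image.mp hw
          have hle : (Finset.univ.filter fun e : E => (e : T) * a * (e : T)⁻¹ = w).image
              (fun e : E => (e0 : T)⁻¹ * e) ⊆ {1, z} := by
            intro v hv
            obtain ⟨e, he, rfl⟩ := Finset.mem_image.mp hv
            have hew := (Finset.mem_filter.mp he).2
            have hEv : (e0 : T)⁻¹ * e ∈ E := E.mul_mem (E.inv_mem e0.2) e.2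
            have hcomm : (e0 : T)⁻¹ * e * a = a * ((e0 : T)⁻¹ * e) := by
              have h := congrArg (fun v => (e0 : T)⁻¹ * v * (e : T)) (hew.trans he0.symm)
              simp only [mul_assoc, inv_mul_cancel_left, inv_mul_cancel, mul_one] at h ⊢
              exact h
            simpa only [Finset.mem_insert, Finset.mem_singleton] using
              hsq _ (hb _ hcomm) (hE2 _ hEv)
          have h1 := (Finset.card_le_card hle).trans (Finset.card_le_two)
          rwa [Finset.card_image_of_injective _ (fun x y hxy => Subtype.ext (mul_left_cancel hxy))]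
            at h1)
      rw [Finset.card_univ, ← Nat.card_eq_fintype_card, hE] at hfib
      have h4 : ({a, a⁻¹, a * z, a⁻¹ * z} : Finset T).card ≤ 4 := Finset.card_le_four
      have h5 := Finset.card_le_card hsub
      exact ⟨(Finset.eq_of_subset_of_card_le hsub (by omega)).symm, by omega⟩
    obtain ⟨himg, hc4⟩ := hcount
    have h8 : a ^ 4 ≠ 1 := by
      intro h
      rcases hsq (a ^ 2) (pow_mem (Subgroup.mem_zpowers a) _) (by rw [← pow_add]; exact h) with h2 | h2
      · rw [pow_two] at h2
        have : ({a, a⁻¹, a * z, a⁻¹ * z} : Finset T) = {a, a * z} := by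
          rw [inv_eq_self h2]; ext w; simp
        rw [this] at hc4
        have := Finset.card_le_two (a := a) (b := a * z)
        omega
      · have e1 : a⁻¹ = a * z := by
          rw [← h2]
          apply inv_eq_of_mul_eq_one_right
          rw [← pow_succ', ← pow_succ']
          exact h
        have : ({a, a⁻¹, a * z, a⁻¹ * z} : Finset T) = {a, a * z} := by
          rw [e1, mul_assoc, mul_self_eq_one hz0, mul_one]; ext w; simp; tauto
        rw [this] at hc4
        have := Finset.card_le_two (a := a) (b := a * z)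
        omega
    obtain ⟨e, -, he⟩ := Finset.mem_image.mp (himg ▸ (show a * z ∈ ({a, a⁻¹, a * z, a⁻¹ * z} : Finset T) by simp))
    have hne : (e : T) * a ≠ a * e := by
      intro h
      rw [h, mul_inv_cancel_right, left_eq_mul] at he
      exact ne_one hz0 he
    refine ⟨e, hz0, hzc, orderOf_eq_two (hE2 e e.2) fun h => hne (by rw [h, one_mul, mul_one]),
      fun h => hne (by rw [h]; exact (hzc a).symm), fun g => ?_⟩
    obtain ⟨l, hl⟩ := han g⁻¹
    simp only [inv_inv] at hl
    have hlodd : Odd l := by
      rw [← Int.not_even_iff_odd]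
      rintro ⟨c, rfl⟩
      have h1 : (g⁻¹ * a * g) ^ (2 : ℤ) ^ n = 1 := by
        rw [← hl, ← zpow_mul, ← orderOf_dvd_iff_zpow_eq_one, hn]
        exact ⟨c, by push_cast; ring⟩
      rw [show g⁻¹ * a * g = g⁻¹ * a * g⁻¹⁻¹ by group, conj_zpow, conj_eq_one_iff,
        ← orderOf_dvd_iff_zpow_eq_one, hn] at h1
      push_cast at h1
      have h2 := Int.le_of_dvd (by positivity) h1
      rw [pow_succ] at h2
      have : (0 : ℤ) < 2 ^ n := by positivity
      linarith
    have hzl : z ^ l = z := by
      obtain ⟨c, rfl⟩ := hlodd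
      rw [zpow_add, zpow_mul, zpow_two, mul_self_eq_one hz0, one_zpow, one_mul, zpow_one]
    have hact : g * (e : T) * g⁻¹ * a * (g * (e : T) * g⁻¹)⁻¹ = a * z := by
      calc g * (e : T) * g⁻¹ * a * (g * (e : T) * g⁻¹)⁻¹
          = g * ((e : T) * (g⁻¹ * a * g) * (e : T)⁻¹) * g⁻¹ := by group
        _ = g * (a ^ l * z ^ l) * g⁻¹ := by
          rw [← hl, ← conj_zpow, he, Commute.mul_zpow (hzc a)]
        _ = g * a ^ l * g⁻¹ * z := by
          rw [hzl, mul_assoc g, mul_assoc (a ^ l), ← hzc g⁻¹, ← mul_assoc (a ^ l), ← mul_assoc g,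
            ← mul_assoc g]
        _ = a * z := by rw [hl]; group
    have hjA : (e : T)⁻¹ * (g * (e : T) * g⁻¹) ∈ A := by
      apply hb
      have h := congrArg (fun v => (e : T)⁻¹ * v * (g * (e : T) * g⁻¹)) (hact.trans he.symm)
      simp only [mul_assoc, inv_mul_cancel_left, inv_mul_cancel, mul_one] at h ⊢
      exact h
    obtain ⟨j, hj⟩ := hjA
    simp only at hj
    have hgee : g * (e : T) * g⁻¹ = (e : T) * a ^ j := by rw [hj, mul_inv_cancel_left]
    have heinv : (e : T)⁻¹ = e := inv_eq_self (hE2 e e.2)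
    have hsq1 : a ^ (j + j) * z ^ j = 1 := by
      have h1 : (g * (e : T) * g⁻¹) * (g * (e : T) * g⁻¹) = 1 := by
        rw [show g * (e : T) * g⁻¹ * (g * (e : T) * g⁻¹) = g * ((e : T) * e) * g⁻¹ by group,
          hE2 e e.2]; simp
      rw [hgee] at h1
      have h2 : (e : T) * a ^ j * e = a ^ j * z ^ j := by
        nth_rewrite 2 [← heinv]
        rw [← conj_zpow, he, Commute.mul_zpow (hzc a)]
      rw [← mul_assoc, h2, mul_assoc, ← ((Commute.zpow_zpow (hzc a) j j)).eq, ← mul_assoc,
        ← zpow_add] at h1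
      exact h1
    rcases Int.even_or_odd j with ⟨c, rfl⟩ | ⟨c, rfl⟩
    · rw [← two_mul c, zpow_mul z, zpow_two, mul_self_eq_one hz0, one_zpow, mul_one,
        zpow_add] at hsq1
      rw [← two_mul c] at hgee
      rcases hsq _ (zpow_mem (Subgroup.mem_zpowers a) _) hsq1 with h | h
      · left; rw [hgee, h, mul_one]
      · right; rw [hgee, h, hzc]
    · exfalso
      have hz1 : z ^ (2 * c + 1) = z := by
        rw [zpow_add, zpow_mul, zpow_two, mul_self_eq_one hz0, one_zpow, one_mul, zpow_one]
      rw [hz1] at hsq1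
      have h2 : a ^ (4 * (2 * c + 1)) = 1 := by
        rw [show 4 * (2 * c + 1) = (2 * c + 1 + (2 * c + 1)) + (2 * c + 1 + (2 * c + 1)) by ring,
          zpow_add, eq_inv_of_mul_eq_one_left hsq1, inv_eq_self (mul_self_eq_one hz0),
          mul_self_eq_one hz0]
      rw [← orderOf_dvd_iff_zpow_eq_one, hn] at h2
      push_cast at h2
      apply h8
      rw [← zpow_natCast, ← orderOf_dvd_iff_zpow_eq_one, hn]
      push_cast
      have hcp : IsCoprime ((2 : ℤ) ^ (n + 1)) (2 * c + 1) := IsCoprime.pow_left ⟨-c, 1, by ring⟩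
      exact hcp.dvd_of_dvd_mul_right h2
  · -- `A` has a proper centraliser
    push_neg at hb
    haveI := hAnorm
    set C := Subgroup.centralizer ({a} : Set T) with hC
    have hCn : C.Normal := ⟨fun m hm g => by
      rw [Subgroup.mem_centralizer_singleton_iff]
      obtain ⟨l, hl⟩ := han g⁻¹
      simp only [inv_inv] at hl
      have hc : Commute m (g⁻¹ * a * g) := by
        rw [← hl]
        exact (Commute.zpow_right (Subgroup.mem_centralizer_singleton_iff.mp hm) l)
      have := congrArg (fun v => g * v * g⁻¹) hc.eq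
      simpa [mul_assoc] using this⟩
    set N := C.map (QuotientGroup.mk' A) with hN
    have hNn : N.Normal := hCn.map _ (QuotientGroup.mk'_surjective A)
    have hNne : N ≠ ⊥ := by
      rw [hN, Ne, Subgroup.map_eq_bot_iff, QuotientGroup.ker_mk']
      obtain ⟨b, hb1, hb2⟩ := hb
      exact fun h => hb2 (h (Subgroup.mem_centralizer_singleton_iff.mpr hb1))
    obtain ⟨cbar, hcN, hc1, hccen⟩ :=
      exists_central_ne_one_of_normal (hT.to_quotient A) N hNn hNne
    -- raise to a power of order two
    obtain ⟨r, hr⟩ := IsPGroup.iff_orderOf.mp (hT.to_quotient A) cbar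
    obtain ⟨r, rfl⟩ : ∃ s, r = s + 1 := by
      rcases r with _ | s
      · exact absurd (orderOf_eq_one_iff.mp hr) hc1
      · exact ⟨s, rfl⟩
    set d := cbar ^ 2 ^ r with hd
    have hd1 : d ≠ 1 := pow_ne_one_of_lt_orderOf (by positivity)
      (by rw [hr]; exact Nat.pow_lt_pow_right one_lt_two (by omega))
    have hd2 : d * d = 1 := by
      rw [hd, ← pow_add, ← two_mul, ← pow_succ', ← hr, pow_orderOf_eq_one]
    obtain ⟨b, hbC, hbd⟩ : d ∈ N := pow_mem hcN _
    have hbA : b ∉ A := fun h => hd1 (by
      rw [← hbd]; exact (QuotientGroup.eq_one_iff b).mpr h)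
    have hb2 : b * b ∈ A := (QuotientGroup.eq_one_iff _).mp (by
      rw [QuotientGroup.mk_mul]; rw [← hbd] at hd2; exact hd2)
    have hbg : ∀ g : T, g * b * g⁻¹ * b⁻¹ ∈ A := fun g => (QuotientGroup.eq_one_iff _).mp (by
      have hc : Commute (g : T ⧸ A) d := Commute.pow_right (hccen _) _
      rw [QuotientGroup.mk_mul, QuotientGroup.mk_mul, QuotientGroup.mk_mul, QuotientGroup.mk_inv,
        QuotientGroup.mk_inv, show (b : T ⧸ A) = d from hbd, hc.eq]
      group)
    have hab : Commute a b := (Subgroup.mem_centralizer_singleton_iff.mp hbC).symm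
    obtain ⟨i, hi⟩ := hb2
    simp only at hi
    rcases Int.even_or_odd i with ⟨h, rfl⟩ | hodd
    · set u := b * a ^ (-h) with hu
      have hu2 : u * u = 1 := by
        rw [hu, (hab.zpow_left (-h)).mul_mul_mul_comm, ← hi, ← zpow_add, ← zpow_add]
        rw [show h + h + (-h + -h) = 0 by ring, zpow_zero]
      have huA : u ∉ A := fun h' => hbA (by
        have := A.mul_mem h' (zpow_mem (Subgroup.mem_zpowers a) h)
        rwa [hu, mul_assoc, ← zpow_add, neg_add_cancel, zpow_zero, mul_one] at this)
      refine ⟨u, hz0, hzc, orderOf_eq_two hu2 (fun h' => huA (h' ▸ one_mem _)),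
        (fun h' => huA (h' ▸ hza)), fun g => ?_⟩
      have hmem : g * u * g⁻¹ * u⁻¹ ∈ A := by
        rw [hu, show g * (b * a ^ (-h)) * g⁻¹ * (b * a ^ (-h))⁻¹ =
          g * b * g⁻¹ * b⁻¹ * (b * ((g * a ^ (-h) * g⁻¹) * (a ^ (-h))⁻¹) * b⁻¹) by group]
        exact A.mul_mem (hbg g) (hAnorm.conj_mem _ (A.mul_mem
          (hAnorm.conj_mem _ (zpow_mem (Subgroup.mem_zpowers a) _) _)
          (A.inv_mem (zpow_mem (Subgroup.mem_zpowers a) _))) _)
      have hcu : Commute (g * u * g⁻¹ * u⁻¹) u := by
        obtain ⟨j, hj⟩ := hmem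
        simp only at hj
        rw [← hj, hu]
        exact ((hab.zpow_left j).mul_right ((Commute.refl a).zpow_zpow j (-h)))
      have hsqm : (g * u * g⁻¹ * u⁻¹) * (g * u * g⁻¹ * u⁻¹) = 1 := by
        have h1 : (g * u * g⁻¹) * (g * u * g⁻¹) = 1 := by
          rw [show g * u * g⁻¹ * (g * u * g⁻¹) = g * (u * u) * g⁻¹ by group, hu2]; simp
        rw [show g * u * g⁻¹ = g * u * g⁻¹ * u⁻¹ * u by group, hcu.symm.mul_mul_mul_comm, hu2,
          mul_one] at h1
        exact h1
      rcases hsq _ hmem hsqm with h' | h'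
      · left; exact mul_inv_eq_one.mp h'
      · right; exact mul_inv_eq_iff_eq_mul.mp h'
    · exfalso
      have hab' : a ∈ Subgroup.zpowers b := by
        have h2 : IsCoprime ((orderOf a : ℕ) : ℤ) i := by
          rw [hn]; push_cast
          obtain ⟨c, rfl⟩ := hodd
          exact IsCoprime.pow_left ⟨-c, 1, by ring⟩
        obtain ⟨x, y, hxy⟩ := h2
        have : a = (b * b) ^ y := by
          rw [← hi, ← zpow_mul]
          conv_lhs => rw [← zpow_one a, ← hxy]
          rw [zpow_add, mul_comm x, zpow_mul, zpow_natCast, pow_orderOf_eq_one, one_zpow, one_mul,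
            mul_comm y]
        rw [this]
        exact zpow_mem (Subgroup.mul_mem _ (Subgroup.mem_zpowers b) (Subgroup.mem_zpowers b)) y
      have hle : A ≤ Subgroup.zpowers b := Subgroup.zpowers_le.mpr hab'
      have hbn : ∀ g : T, g * b * g⁻¹ ∈ Subgroup.zpowers b := fun g => by
        have := (Subgroup.zpowers b).mul_mem (hle (hbg g)) (Subgroup.mem_zpowers b)
        rwa [inv_mul_cancel_right] at this
      have h1 := hmax ⟨b, hle hza, hbn⟩
      simp only at h1
      rw [← Nat.card_zpowers, ← Nat.card_zpowers] at h1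
      have := Subgroup.eq_of_le_of_card_ge hle h1
      exact hbA (by rw [this]; exact Subgroup.mem_zpowers b)

/-- Adjoining a commuting involution to an elementary abelian 2-group. -/
theorem exists_elementary_extend {T : Type*} [Group T] [Finite T] (F : Subgroup T)
    (hF : ∀ e ∈ F, e * e = 1) (y : T) (hy : y * y = 1) (hc : ∀ e ∈ F, Commute e y) (hyF : y ∉ F) :
    ∃ F' : Subgroup T, F ≤ F' ∧ y ∈ F' ∧ Nat.card F' = 2 * Nat.card F ∧ ∀ e ∈ F', e * e = 1 := by
  let F' : Subgroup T :=
    { carrier := {w | w ∈ F ∨ w * y ∈ F}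
      one_mem' := Or.inl F.one_mem
      mul_mem' := by
        rintro v w (hv | hv) (hw | hw)
        · exact Or.inl (F.mul_mem hv hw)
        · exact Or.inr (by rw [mul_assoc]; exact F.mul_mem hv hw)
        · refine Or.inr ?_
          have h := F.mul_mem hv hw
          rwa [mul_assoc, ← (hc w hw).eq, ← mul_assoc] at h
        · refine Or.inl ?_
          have h := F.mul_mem hv hw
          have hwy := (hc _ hw).eq
          rw [mul_assoc, ← hwy, mul_assoc w, hy, mul_one] at h
          exact h
      inv_mem' := by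
        rintro v (hv | hv)
        · exact Or.inl (F.inv_mem hv)
        · refine Or.inr ?_
          have h := F.inv_mem hv
          have hvy : Commute v y := by
            have := (hc _ hv).mul_left (Commute.refl y)
            rwa [mul_assoc, hy, mul_one] at this
          have h2 : (v * y)⁻¹ = v⁻¹ * y := by
            rw [mul_inv_rev, inv_eq_self hy, hvy.inv_left.eq]
          rwa [h2] at h }
  have hF' : ∀ e ∈ F', e * e = 1 := by
    rintro v (hv | hv)
    · exact hF v hv
    · have h := hF _ hv
      rwa [(show v * y * (v * y) = v * y * y * v from by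
        rw [mul_assoc (v * y) y v]
        congr 1
        have := (hc _ hv).eq
        calc v * y = v * y * (y * y) := by rw [hy, mul_one]
          _ = v * y * y * y := by group
          _ = y * (v * y) * y := by rw [this]
          _ = y * v := by rw [mul_assoc, mul_assoc v, hy, mul_one]),
        mul_assoc v y y, hy, mul_one] at h
  refine ⟨F', fun w hw => Or.inl hw, Or.inr (by rw [hy]; exact F.one_mem), ?_, hF'⟩
  have hset : (F' : Set T) = (F : Set T) ∪ (fun w => w * y) '' (F : Set T) := by
    ext w
    show (w ∈ F ∨ w * y ∈ F) ↔ _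
    simp only [Set.mem_union, Set.mem_image, SetLike.mem_coe]
    refine or_congr_right ⟨fun h => ⟨w * y, h, by rw [mul_assoc, hy, mul_one]⟩, ?_⟩
    rintro ⟨v, hv, rfl⟩
    rwa [mul_assoc, hy, mul_one]
  have hdis : Disjoint (F : Set T) ((fun w => w * y) '' (F : Set T)) := by
    rw [Set.disjoint_left]
    rintro w hw ⟨v, hv, rfl⟩
    exact hyF (by simpa using F.mul_mem (F.inv_mem hv) hw)
  show Nat.card (F' : Set T) = 2 * Nat.card (F : Set T)
  rw [Nat.card_coe_set_eq, Nat.card_coe_set_eq, hset,
    Set.ncard_union_eq hdis (Set.toFinite _) (Set.toFinite _),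
    Set.ncard_image_of_injective _ (mul_left_injective y)]
  omega

/-- A 2-group containing an elementary abelian group of order 8 has a subgroup of index 2 all of
whose involutions centralise such a group. -/
theorem exists_index_two_rank_three {T : Type*} [Group T] [Finite T] (hT : IsPGroup 2 T)
    (E : Subgroup T) (hE : Nat.card E = 8) (hE2 : ∀ e ∈ E, e * e = 1) :
    ∃ Q : Subgroup T, Q.index = 2 ∧ ∀ y ∈ Q, y * y = 1 →
      ∃ F : Subgroup T, Nat.card F = 8 ∧ (∀ e ∈ F, e * e = 1) ∧ ∀ e ∈ F, Commute e y := by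
  classical
  have : Fact (Nat.Prime 2) := ⟨Nat.prime_two⟩
  obtain ⟨z, u, hz, hzc, hu, huz, hcu⟩ := exists_normal_four hT E hE hE2
  set C := Subgroup.centralizer ({u} : Set T) with hC
  have hCidx : C.index ≤ 2 := by
    have h := card_isConj_mul_card_centralizer u
    rw [← C.index_mul_card] at h
    rw [← Nat.eq_of_mul_eq_mul_right Nat.card_pos h]
    have hsub : {v : T | IsConj u v} ⊆ {u, z * u} := by
      intro v hv
      obtain ⟨g, rfl⟩ := isConj_iff.mp hv
      rcases hcu g with h' | h'
      · exact Or.inl h'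
      · exact Or.inr h'
    have h' := Set.ncard_le_ncard hsub (Set.toFinite _)
    rw [← Nat.card_coe_set_eq] at h'
    refine le_trans h' (le_trans (Set.ncard_insert_le _ _) ?_)
    rw [Set.ncard_singleton]
  obtain ⟨Q, hQ, hQC⟩ : ∃ Q : Subgroup T, Q.index = 2 ∧ Q ≤ C := by
    rcases (show C.index = 1 ∨ C.index = 2 by
      have := C.index_ne_zero_of_finite; omega) with h | h
    · obtain ⟨k, hk⟩ := hT.exists_card_eq
      rcases k with _ | k
      · have := Nat.le_of_dvd Nat.card_pos (hE ▸ E.card_subgroup_dvd_card)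
        rw [hk] at this
        omega
      · obtain ⟨Q, hQ⟩ := Sylow.exists_subgroup_card_pow_prime 2 (n := k) (G := T)
          (by rw [hk]; exact pow_dvd_pow 2 (by omega))
        refine ⟨Q, ?_, by rw [Subgroup.index_eq_one.mp h]; exact le_top⟩
        have h2 := Q.index_mul_card
        rw [hQ, hk, pow_succ', mul_left_inj' (by positivity)] at h2
        exact h2
    · exact ⟨C, h, le_rfl⟩
  refine ⟨Q, hQ, fun y hyQ hy => ?_⟩
  have hyu : Commute y u := Subgroup.mem_centralizer_singleton_iff.mp (hQC hyQ)
  have hu' := mul_self_eq_one hu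
  have hz' := mul_self_eq_one hz
  obtain ⟨F1, -, hzF1, hF1c, hF1⟩ := exists_elementary_extend (⊥ : Subgroup T)
    (fun e he => by rw [Subgroup.mem_bot.mp he, one_mul]) z hz'
    (fun e he => by rw [Subgroup.mem_bot.mp he]; exact Commute.one_left z)
    (fun h => ne_one hz (Subgroup.mem_bot.mp h))
  rw [Subgroup.card_bot, mul_one] at hF1c
  have hF1mem : ∀ e ∈ F1, e = 1 ∨ e = z := by
    intro e he
    have hset : ({1, z} : Set T) = (F1 : Set T) := by
      refine Set.eq_of_subset_of_ncard_le ?_ ?_ (Set.toFinite _)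
      · rintro w (rfl | rfl)
        · exact F1.one_mem
        · exact hzF1
      · rw [Set.ncard_pair (ne_one hz).symm, ← Nat.card_coe_set_eq]
        exact hF1c.le
    have : e ∈ ({1, z} : Set T) := hset ▸ he
    exact this
  have huF1 : u ∉ F1 := fun h => (hF1mem u h).elim (ne_one hu) huz
  obtain ⟨U, hF1U, huU, hUc, hU⟩ := exists_elementary_extend F1 hF1 u hu'
    (fun e he => by
      rcases hF1mem e he with rfl | rfl
      · exact Commute.one_left u
      · exact (hzc u).symm) huF1
  rw [hF1c] at hUc
  have hUset : (U : Set T) = {1, z, u, z * u} := by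
    symm
    refine Set.eq_of_subset_of_ncard_le ?_ ?_ (Set.toFinite _)
    · rintro w (rfl | rfl | rfl | rfl)
      · exact U.one_mem
      · exact hF1U hzF1
      · exact huU
      · exact U.mul_mem (hF1U hzF1) huU
    · rw [← Nat.card_coe_set_eq]
      refine (show Nat.card U ≤ _ from ?_)
      rw [hUc, Set.ncard_insert_of_notMem (by
          simp only [Set.mem_insert_iff, Set.mem_singleton_iff, not_or]
          exact ⟨(ne_one hz).symm, (ne_one hu).symm, fun h => huz
            ((eq_inv_of_mul_eq_one_right h.symm).trans (inv_eq_self hz'))⟩),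
        Set.ncard_insert_of_notMem (by
          simp only [Set.mem_insert_iff, Set.mem_singleton_iff, not_or]
          exact ⟨huz.symm, fun h => ne_one hu (left_eq_mul.mp h)⟩),
        Set.ncard_pair (fun h => ne_one hz (right_eq_mul.mp h))]
  by_cases hyU : y ∈ U
  · -- `C(y)` is `T` or `C(u)`
    by_cases hyz : ∀ w : T, Commute w y
    · exact ⟨E, hE, hE2, fun e _ => hyz e⟩
    · have hCy : ∀ w ∈ C, Commute w y := by
        intro w hw
        have hwu : Commute w u := Subgroup.mem_centralizer_singleton_iff.mp hw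
        have : y ∈ ({1, z, u, z * u} : Set T) := hUset ▸ hyU
        rcases this with rfl | rfl | rfl | rfl
        · exact Commute.one_right w
        · exact hzc w
        · exact hwu
        · exact (show Commute w z from hzc w).mul_right hwu
      suffices ∃ F : Subgroup T, Nat.card F = 8 ∧ (∀ e ∈ F, e * e = 1) ∧ F ≤ C by
        obtain ⟨F, h1, h2, h3⟩ := this
        exact ⟨F, h1, h2, fun e he => hCy e (h3 he)⟩
      by_cases huE : u ∈ E
      · refine ⟨E, hE, hE2, fun w hw => ?_⟩
        rw [hC, Subgroup.mem_centralizer_singleton_iff]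
        have h := eq_inv_of_mul_eq_one_left (hE2 _ (E.mul_mem hw huE))
        rwa [mul_inv_rev, inv_eq_self (hE2 _ huE), inv_eq_self (hE2 _ hw)] at h
      · set F := E ⊓ C with hF
        have hmul : Nat.card F * F.relIndex E = 8 := by
          rw [← hE, ← Subgroup.relIndex_bot_left, ← Subgroup.relIndex_bot_left]
          exact Subgroup.relIndex_mul_relIndex ⊥ F E bot_le inf_le_left
        have hrel : F.relIndex E ≤ 2 := by
          rw [hF, inf_comm, Subgroup.inf_relIndex_right]
          have : C.relIndex E ≤ C.relIndex ⊤ :=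
            Subgroup.relIndex_le_of_le_right le_top (by
              rw [Subgroup.relIndex_top_right]; exact C.index_ne_zero_of_finite)
          rw [Subgroup.relIndex_top_right] at this
          omega
        rcases (show F.relIndex E = 1 ∨ F.relIndex E = 2 by
          have : F.relIndex E ≠ 0 := fun h0 => by rw [h0, mul_zero] at hmul; omega
          omega) with h1 | h1
        · rw [h1, mul_one] at hmul
          exact ⟨F, hmul, fun e he => hE2 e he.1, inf_le_right⟩
        · rw [h1] at hmul
          obtain ⟨F', hFF', huF', hF'c, hF'⟩ := exists_elementary_extend F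
            (fun e he => hE2 e he.1) u hu'
            (fun e he => Subgroup.mem_centralizer_singleton_iff.mp he.2) (fun h => huE h.1)
          refine ⟨F', by omega, hF', fun w hw => ?_⟩
          rw [hC, Subgroup.mem_centralizer_singleton_iff]
          have h := eq_inv_of_mul_eq_one_left (hF' _ (F'.mul_mem hw huF'))
          rwa [mul_inv_rev, inv_eq_self hu', inv_eq_self (hF' _ hw)] at h
  · have hcU : ∀ e ∈ U, Commute e y := by
      intro e he
      have : e ∈ ({1, z, u, z * u} : Set T) := hUset ▸ he
      rcases this with rfl | rfl | rfl | rfl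
      · exact Commute.one_left y
      · exact (hzc y).symm
      · exact hyu.symm
      · exact (show Commute z y from (hzc y).symm).mul_left hyu.symm
    obtain ⟨F, hUF, hyF, hFc, hF⟩ := exists_elementary_extend U hU y hy hcU hyU
    refine ⟨F, by omega, hF, fun e he => ?_⟩
    have h := eq_inv_of_mul_eq_one_left (hF _ (F.mul_mem he hyF))
    rwa [mul_inv_rev, inv_eq_self hy, inv_eq_self (hF _ he)] at h

end Cfsg.Agent.Lib.Involution
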